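import Groth.Agent.Lib.Algz56.Embedding
import Groth.Agent.Lib.Ample.Calculus

/-!
# Morphisms to projective space read in a cocycle on an open
-/

set_option autoImplicit false
set_option linter.all false
set_option backward.isDefEq.respectTransparency false
set_option maxHeartbeats 600000

universe u

open AlgebraicGeometry CategoryTheory CategoryTheory.Limits TopologicalSpace Opposite MvPolynomial
open GrothLib.InvExt (mres IsGen)
open GrothLib.Ample

noncomputable section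

namespace GrothLib.KerImm5

/-- Transfer of a generator along an isomorphism. -/
theorem isGen_app {X : Scheme.{u}} {M N : X.Modules} (d : M ≅ N) {V : X.Opens} {v : Γ(M, V)} (h : IsGen M V v) :
    IsGen N V (d.hom.app V v) :=
  InvExt.IsGen.map d.hom h fun W _ => ConcreteCategory.bijective_of_isIso (d.hom.app W)

theorem inv_app_hom {X : Scheme.{u}} {M N : X.Modules} (d : M ≅ N) {V : X.Opens} (w : Γ(N, V)) :
    d.hom.app V (d.inv.app V w) = w :=
  congrArg (fun φ : N ⟶ N => φ.app V w) d.inv_hom_id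

/-- A family generates exactly on its locus. -/
theorem isGen_iff_le_locus {X : Scheme.{u}} (c : Cocycle X) {N : ℕ} (a : c.sect N ⊤) (V : X.Opens) :
    IsGen (c.twist N) V (c.sectRes (le_top : V ≤ ⊤) a) ↔ V ≤ c.locus a := by
  refine ⟨fun h => c.mem_locus_of_surjective a fun W hW (t : c.sect N W) => ?_, fun h => ?_⟩
  · obtain ⟨(r : Γ(X, W)), hr⟩ := (h W hW).2 t
    refine ⟨r, (c.hom_app_apply a W r).trans ?_⟩
    refine Eq.trans ?_ hr
    exact congrArg (r • ·) (c.sectRes_sectRes _ hW a).symm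
  · have h1 := InvExt.IsGen.restrict (c.isGen_sectRes_locus a) h
    have e : mres (c.twist N) h (c.sectRes (le_top : c.locus a ≤ ⊤) a) = c.sectRes (le_top : V ≤ ⊤) a :=
      c.sectRes_sectRes _ h a
    rwa [e] at h1

section

variable {Y : Scheme.{u}} {n : ℕ} {R : Type u} [CommRing R] (g : Y ⟶ CohB1.ProjSpace n R) {M : Y.Modules}
  (τ : (Scheme.Modules.pullback g).obj (Twist.twistProjSpace n R 1) ≅ M) {s : Fin (n + 1) → ProjUP.Γm M}
  (hτ : ∀ i, τ.hom.app ⊤ (ProjMap.pullCoord g i) = s i)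

/-- The preimage of a chart. -/
abbrev W (a : Fin (n + 1)) : Y.Opens := g ⁻¹ᵁ (ProjMap.pcoc n R).D ⟨a⟩

include hτ in
theorem isGen_W (a : Fin (n + 1)) : IsGen M (W g a) (mres M le_top (s a)) := by
  have h := isGen_app τ (ProjMap.isGen_pullCoord g ⟨a⟩)
  rw [app_mres, hτ] at h
  exact h

include hτ in
theorem rel_W (a b : Fin (n + 1)) :
    mres M (le_top : W g a ≤ ⊤) (s b) = ProjMap.pullRatio g a b • mres M (le_top : W g a ≤ ⊤) (s a) := by
  have h := congrArg (τ.hom.app (W g a)) (ProjMap.mres_pullCoord g ⟨a⟩ b)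
  rw [app_smul, app_mres, app_mres, hτ, hτ] at h
  exact h

include hτ in
theorem le_W (a : Fin (n + 1)) {V : Y.Opens} (h : IsGen M V (mres M le_top (s a))) : V ≤ W g a := fun x hx => by
  obtain ⟨k, hk⟩ := (ProjMap.pcoc n R).exists_mem (g x)
  have hx' : x ∈ V ⊓ W g k.down := ⟨hx, hk⟩
  obtain ⟨r, hr⟩ := h.exists_smul_eq (inf_le_left : V ⊓ W g k.down ≤ V) (mres M (le_top : V ⊓ W g k.down ≤ ⊤) (s k.down))
  have h1 := congrArg (mres M (inf_le_right : V ⊓ W g k.down ≤ W g k.down)) (rel_W g τ hτ k.down a)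
  rw [mres_smul', InvExt.mres_mres, InvExt.mres_mres] at h1
  have h2 : res (inf_le_right : V ⊓ W g k.down ≤ W g k.down) (ProjMap.pullRatio g k.down a) * r = 1 := by
    refine h.smul_left_injective (inf_le_left : V ⊓ W g k.down ≤ V) ?_
    rw [mul_smul, one_smul, InvExt.mres_mres]
    rw [InvExt.mres_mres] at hr
    exact (congrArg (res (inf_le_right : V ⊓ W g k.down ≤ W g k.down) (ProjMap.pullRatio g k.down a) • ·)
      hr.symm).trans h1.symm
  have h3 : x ∈ Y.basicOpen (res (inf_le_right : V ⊓ W g k.down ≤ W g k.down) (ProjMap.pullRatio g k.down a)) := by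
    rw [Scheme.basicOpen_of_isUnit _ (IsUnit.of_mul_eq_one _ h2)]; exact hx'
  rw [res, Scheme.basicOpen_res] at h3
  exact ProjMap.basicOpen_pullRatio_le g k.down a h3.2

end

theorem smul_restrict {X : Scheme.{u}} (U : X.Opens) (M : X.Modules) {V : (U : Scheme.{u}).Opens}
    (r : Γ(U, V)) (m : Γ(M.restrict U.ι, V)) :
    (show Γ(M, U.ι ''ᵁ V) from r • m) = (show Γ(X, U.ι ''ᵁ V) from r) • (show Γ(M, U.ι ''ᵁ V) from m) := by
  have h := Scheme.Modules.smul_restrictAppIso_hom_apply U.ι M V r m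
  rw [Scheme.Opens.ι_appIso] at h
  exact h

/-- Generators on an open subscheme are generators on its image. -/
theorem isGen_restrict {X : Scheme.{u}} {M : X.Modules} (U : X.Opens) {V : (U : Scheme.{u}).Opens}
    (v : Γ(M, U.ι ''ᵁ V)) (h : IsGen (M.restrict U.ι) V v) : IsGen M (U.ι ''ᵁ V) v := by
  intro W' hW'
  obtain ⟨W, rfl⟩ : ∃ W : (U : Scheme.{u}).Opens, U.ι ''ᵁ W = W' := ⟨U.ι ⁻¹ᵁ W', by
    rw [Scheme.Hom.image_preimage_eq_opensRange_inf, Scheme.Opens.opensRange_ι,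
      inf_eq_right.mpr (hW'.trans (U.ι_image_le V))]⟩
  have h' := h W ((Scheme.Hom.image_le_image_iff U.ι W V).mp hW')
  refine ⟨fun a b hab => h'.1 ((smul_restrict U M (V := W) a _).trans (hab.trans (smul_restrict U M (V := W) b _).symm)),
    fun y => ?_⟩
  obtain ⟨a, ha⟩ := h'.2 y
  exact ⟨a, (smul_restrict U M (V := W) a _).symm.trans ha⟩

theorem isGen_of_image {X : Scheme.{u}} {M : X.Modules} (U : X.Opens) {V : (U : Scheme.{u}).Opens}
    (v : Γ(M, U.ι ''ᵁ V)) (h : IsGen M (U.ι ''ᵁ V) v) : IsGen (M.restrict U.ι) V v := fun W hW => by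
  have h' := h (U.ι ''ᵁ W) (U.ι.image_mono hW)
  refine ⟨fun a b hab => h'.1 ((smul_restrict U M (V := W) a _).symm.trans (hab.trans (smul_restrict U M (V := W) b _))),
    fun y => ?_⟩
  obtain ⟨a, ha⟩ := h'.2 y
  exact ⟨a, (smul_restrict U M (V := W) a _).trans ha⟩

/-- The restriction of a global section to an open subscheme, as a global section there. -/
abbrev resU {X : Scheme.{u}} (U : X.Opens) (M : X.Modules) (v : ProjUP.Γm M) : ProjUP.Γm (M.restrict U.ι) :=
  (M.restrictAppIso U.ι ⊤).inv ((M.presheaf.map (homOfLE le_top).op) v)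

theorem mres_resU {X : Scheme.{u}} (U : X.Opens) (M : X.Modules) (v : ProjUP.Γm M) (V : (U : Scheme.{u}).Opens) :
    mres (M.restrict U.ι) (le_top : V ≤ ⊤) (resU U M v) = mres M (le_top : U.ι ''ᵁ V ≤ ⊤) v :=
  InvExt.mres_mres M (le_top : U.ι ''ᵁ (⊤ : (U : Scheme.{u}).Opens) ≤ ⊤) (U.ι.image_mono (le_top : V ≤ ⊤)) v

section

variable {X : Scheme.{u}} (U : X.Opens) {n : ℕ} {R : Type u} [CommRing R]
  (φ : (U : Scheme.{u}) ⟶ CohB1.ProjSpace n R) (c : Cocycle X) {N : ℕ} {M : X.Modules} (d : M ≅ c.twist N)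
  {s : Fin (n + 1) → ProjUP.Γm M}
  (τ : (Scheme.Modules.pullback φ).obj (Twist.twistProjSpace n R 1) ≅ M.restrict U.ι)
  (hτ : ∀ i, τ.hom.app ⊤ (ProjMap.pullCoord φ i) = resU U M (s i))

/-- The family of a section. -/
def fam (v : ProjUP.Γm M) : c.sect N ⊤ := d.hom.app ⊤ v

theorem sectRes_fam (v : ProjUP.Γm M) (V : X.Opens) :
    c.sectRes (le_top : V ≤ ⊤) (fam c d v) = d.hom.app V (mres M (le_top : V ≤ ⊤) v) :=
  (app_mres d.hom (le_top : V ≤ ⊤) v).symm

include τ hτ in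
theorem sectRes_eq_pullRatio_smul (a b : Fin (n + 1)) :
    c.sectRes (le_top : U.ι ''ᵁ W φ a ≤ ⊤) (fam c d (s b)) =
      (show Γ(X, U.ι ''ᵁ W φ a) from ProjMap.pullRatio φ a b) •
        c.sectRes (le_top : U.ι ''ᵁ W φ a ≤ ⊤) (fam c d (s a)) := by
  have h := rel_W φ τ hτ a b
  rw [mres_resU, mres_resU] at h
  rw [sectRes_fam, sectRes_fam]
  refine Eq.trans (congrArg (d.hom.app (U.ι ''ᵁ W φ a)) (h.trans (smul_restrict U M _ _))) ?_
  exact app_smul d.hom _ _

include τ hτ in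
theorem image_W (a : Fin (n + 1)) : U.ι ''ᵁ W φ a = U ⊓ c.locus (fam c d (s a)) := by
  refine le_antisymm (le_inf (U.ι_image_le _) ?_) ?_
  · have h := isGen_W φ τ hτ a
    rw [mres_resU] at h
    have h' := isGen_app d (isGen_restrict U _ h)
    rw [← sectRes_fam] at h'
    exact (isGen_iff_le_locus c _ _).mp h'
  · have hV : U.ι ''ᵁ (U.ι ⁻¹ᵁ c.locus (fam c d (s a))) = U ⊓ c.locus (fam c d (s a)) := by
      rw [Scheme.Hom.image_preimage_eq_opensRange_inf, Scheme.Opens.opensRange_ι]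
    rw [← hV]
    refine U.ι.image_mono (le_W φ τ hτ a ?_)
    rw [mres_resU]
    refine isGen_of_image U _ ?_
    have h := isGen_app d.symm ((isGen_iff_le_locus c (fam c d (s a)) _).mpr (hV.le.trans inf_le_right))
    rw [sectRes_fam] at h
    have e : d.symm.hom.app _ (d.hom.app _ (mres M (le_top : U.ι ''ᵁ (U.ι ⁻¹ᵁ c.locus (fam c d (s a))) ≤ ⊤) (s a))) =
        mres M le_top (s a) := inv_app_hom d.symm _
    rw [e] at h
    exact h

end

section

variable {X : Scheme.{u}} {n : ℕ} {R : Type u} [CommRing R]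
  (r : X ⟶ CohB1.ProjSpace n R) (c : Cocycle X) {N : ℕ}
  (τ : (Scheme.Modules.pullback r).obj (Twist.twistProjSpace n R 1) ≅ c.twist N)

/-- The family of a pulled-back coordinate. -/
def coordFam (j : Fin (n + 1)) : c.sect N ⊤ := τ.hom.app ⊤ (ProjMap.pullCoord r j)

theorem sectRes_coordFam (j b : Fin (n + 1)) :
    c.sectRes (le_top : W r j ≤ ⊤) (coordFam r c τ b) =
      ProjMap.pullRatio r j b • c.sectRes (le_top : W r j ≤ ⊤) (coordFam r c τ j) :=
  rel_W r τ (fun _ => rfl) j b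

theorem W_eq (j : Fin (n + 1)) : W r j = c.locus (coordFam r c τ j) :=
  le_antisymm ((isGen_iff_le_locus c _ _).mp (isGen_W r τ (fun _ => rfl) j))
    (le_W r τ (fun _ => rfl) j ((isGen_iff_le_locus c _ _).mpr le_rfl))

end

end GrothLib.KerImm5
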