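import Groth.Agent.Lib.KerImm5.Gen
import Mathlib.AlgebraicGeometry.Morphisms.QuasiCompact
import Mathlib.AlgebraicGeometry.Morphisms.ClosedImmersion

/-!
# Families vanishing on a subscheme
-/

set_option autoImplicit false
set_option linter.all false
set_option backward.isDefEq.respectTransparency false
set_option maxHeartbeats 600000

universe u

open AlgebraicGeometry CategoryTheory CategoryTheory.Limits TopologicalSpace Opposite
open GrothLib.InvExt (mres IsGen)
open GrothLib.Ample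

noncomputable section

namespace GrothLib.KerImm5

variable {X Z : Scheme.{u}} (i : Z ⟶ X) (c : Cocycle X) {N N' : ℕ}

/-- The components of a family vanish on `Z`. -/
def Vanishes (a : c.sect N ⊤) : Prop :=
  ∀ z : Z, ∃ (l : c.ι) (V : Z.Opens) (hV : V ≤ i ⁻¹ᵁ (⊤ ⊓ c.D l)), z ∈ V ∧
    (i.appLE (⊤ ⊓ c.D l) V hV).hom (a.1 l) = 0

theorem Vanishes.mul {a : c.sect N ⊤} (h : Vanishes i c a) (b : c.sect N' ⊤) : Vanishes i c (c.mul a b) := fun z => by
  obtain ⟨l, V, hV, hz, e⟩ := h z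
  exact ⟨l, V, hV, hz, by rw [c.mul_apply, map_mul, e, zero_mul]⟩

/-- A power of a family whose locus misses a quasi-compact subscheme vanishes on it. -/
theorem exists_vanishes_pow [CompactSpace Z] (t : c.sect N ⊤) (h : ∀ z : Z, i z ∉ c.locus t) :
    ∃ e : ℕ, ∀ e', e ≤ e' → Vanishes i c (c.sectPow t e') := by
  classical
  have hex : ∀ z : Z, ∃ (l : c.ι) (V : Z.Opens) (hV : V ≤ i ⁻¹ᵁ (⊤ ⊓ c.D l)) (e : ℕ), z ∈ V ∧
      (i.appLE (⊤ ⊓ c.D l) V hV).hom (t.1 l) ^ e = 0 := fun z => by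
    obtain ⟨l, hl⟩ := c.exists_mem (i z)
    obtain ⟨V, hV, hzV, hVle⟩ := exists_isAffineOpen_mem_and_subset (U := i ⁻¹ᵁ (⊤ ⊓ c.D l)) (x := z) ⟨trivial, hl⟩
    have h0 : Z.basicOpen ((i.appLE (⊤ ⊓ c.D l) V hVle).hom (t.1 l)) = ⊥ := by
      rw [eq_bot_iff]
      intro y hy
      rw [Scheme.basicOpen_appLE] at hy
      exact (h y (le_iSup (fun j => X.basicOpen (t.1 j)) l hy.2)).elim
    obtain ⟨e, he⟩ := (Scheme.isNilpotent_iff_basicOpen_eq_bot_of_isCompact hV.isCompact _).2 h0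
    exact ⟨l, V, hVle, e, hzV, he⟩
  choose l V hV e hzV he using hex
  obtain ⟨S, hS⟩ := isCompact_univ.elim_finite_subcover (fun z => (V z : Set Z)) (fun z => (V z).2)
    (fun z _ => Set.mem_iUnion.mpr ⟨z, hzV z⟩)
  refine ⟨S.sup e, fun e' he' z => ?_⟩
  obtain ⟨y, hy, hzy⟩ := Set.mem_iUnion₂.mp (hS (Set.mem_univ z))
  refine ⟨l y, V y, hV y, hzy, ?_⟩
  rw [c.sectPow_apply, map_pow, ← Nat.sub_add_cancel ((Finset.le_sup hy).trans he'), pow_add, he, mul_zero]

/-- A vanishing family gives a section killed by the inverse image. -/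
theorem pullSec_eq_zero {M : X.Modules} (d : M ≅ c.twist N) {a : c.sect N ⊤} (h : Vanishes i c a) :
    ProjUP.pullSec i M (d.inv.app ⊤ a) = 0 := by
  choose l V hV hzV e using h
  refine meq_of_cover _ V (fun z => le_top) (fun z _ => Opens.mem_iSup.mpr ⟨z, hzV z⟩) fun z => ?_
  let D : X.Opens := ⊤ ⊓ c.D (l z)
  let η := (Scheme.Modules.pullbackPushforwardAdjunction i).unit.app M
  have h1 : mres M (le_top : D ≤ ⊤) (d.inv.app ⊤ a) = a.1 (l z) • d.inv.app D (c.base N (l z) (inf_le_right : D ≤ c.D (l z))) := by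
    refine (app_mres d.inv (le_top : D ≤ ⊤) a).symm.trans (Eq.trans ?_ (app_smul d.inv _ _))
    refine congrArg (d.inv.app D) ((c.eq_smul_base (l z) (inf_le_right : D ≤ c.D (l z)) (c.sectRes le_top a)).trans ?_)
    refine congrArg (· • c.base N (l z) (inf_le_right : D ≤ c.D (l z))) ?_
    show res _ (res _ (a.1 (l z))) = a.1 (l z)
    rw [res_res]
    exact res_self _ _
  have h2 : mres ((Scheme.Modules.pullback i).obj M) (le_top : i ⁻¹ᵁ D ≤ ⊤) (ProjUP.pullSec i M (d.inv.app ⊤ a)) =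
      (i.appLE D (i ⁻¹ᵁ D) le_rfl).hom (a.1 (l z)) •
        (show Γ((Scheme.Modules.pullback i).obj M, i ⁻¹ᵁ D) from η.app D (d.inv.app D (c.base N (l z) (inf_le_right : D ≤ c.D (l z))))) := by
    refine (app_mres η (le_top : D ≤ ⊤) (d.inv.app ⊤ a)).symm.trans ?_
    refine (congrArg (η.app D) h1).trans ((app_smul η _ _).trans ?_)
    exact pushforward_smul i _ _ _
  have h3 := congrArg (mres ((Scheme.Modules.pullback i).obj M) (hV z)) h2
  rw [InvExt.mres_mres, mres_smul'] at h3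
  refine h3.trans ?_
  have h4 : res (hV z) ((i.appLE D (i ⁻¹ᵁ D) le_rfl).hom (a.1 (l z))) = 0 := by
    rw [show res (hV z) ((i.appLE D (i ⁻¹ᵁ D) le_rfl).hom (a.1 (l z))) = (i.appLE D (V z) (hV z)).hom (a.1 (l z)) from
      congrArg (fun F => F.hom (a.1 (l z))) (i.appLE_map (U := D) le_rfl (homOfLE (hV z)).op)]
    exact e z
  rw [h4, zero_smul]
  exact (map_zero _).symm

end GrothLib.KerImm5
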