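import Groth.Agent.Lib.KerImm5.Pieces
import Groth.Agent.Lib.KerImm5.Vanish
import Groth.Agent.Lib.Euler.TensorSupport
import Groth.Agent.Lib.Ample.Criterion
import Mathlib.AlgebraicGeometry.Noetherian

/-!
# Sections of high powers vanishing on a closed subscheme embed the complement
-/

set_option autoImplicit false
set_option linter.all false
set_option backward.isDefEq.respectTransparency false
set_option maxHeartbeats 800000

universe u

open AlgebraicGeometry CategoryTheory CategoryTheory.Limits TopologicalSpace Opposite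
open GrothLib.InvExt (mres IsGen)
open GrothLib.Ample

noncomputable section

namespace GrothLib.KerImm5

variable {k : Type u} [Field k] {X : Scheme.{u}} (f : X ⟶ Spec (CommRingCat.of k)) (c : Cocycle X)

/-- The functions on the locus of an embedding coordinate are generated by constants and ratios. -/
theorem closure_coord {m n' : ℕ} (r : X ⟶ CohB1.ProjSpace n' k) [IsClosedImmersion r]
    (hr : r ≫ CohB1.ProjSpace.toSpec n' k = f)
    (τ : (Scheme.Modules.pullback r).obj (Twist.twistProjSpace n' k 1) ≅ c.twist m) (j : Fin (n' + 1)) :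
    IsAffineOpen (c.locus (coordFam r c τ j)) ∧
      Subring.closure {g : Γ(X, c.locus (coordFam r c τ j)) |
        (∃ t : k, g = res le_top (ProjUP.toGlobal f t)) ∨
          ∃ b, c.sectRes (le_top : c.locus (coordFam r c τ j) ≤ ⊤) (coordFam r c τ b) =
            g • c.sectRes le_top (coordFam r c τ j)} = ⊤ := by
  suffices H : ∀ V : X.Opens, W r j = V → IsAffineOpen V ∧ Subring.closure {g : Γ(X, V) |
      (∃ t : k, g = res le_top (ProjUP.toGlobal f t)) ∨
        ∃ b, c.sectRes (le_top : V ≤ ⊤) (coordFam r c τ b) = g • c.sectRes le_top (coordFam r c τ j)} = ⊤ from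
    H _ (W_eq r c τ j)
  rintro _ rfl
  have haff := Proj.isAffineOpen_basicOpen (CohB1.polyGrading n' k) (MvPolynomial.X j) (ProjMap.X_mem j) one_pos
  refine ⟨haff.preimage r, top_le_iff.mp fun z _ => ?_⟩
  obtain ⟨g, hg, hgr⟩ := ProjMap.pullRatio_spec r j
  have hgsurj : Function.Surjective g := by
    intro w
    obtain ⟨w', hw'⟩ := r.app_surjective _ haff ((W r j).topIso.hom w)
    obtain ⟨v, rfl⟩ := (ConcreteCategory.bijective_of_isIso
      (Proj.basicOpenIsoAway (CohB1.polyGrading n' k) (MvPolynomial.X j) (ProjMap.X_mem j) one_pos).hom).2 w'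
    refine ⟨v, (ConcreteCategory.bijective_of_isIso (W r j).topIso.hom).1 ?_⟩
    rw [← hw']
    have key : ∀ (ψ : (W r j : Scheme.{u}) ⟶ CohB1.ProjSpace n' k) (e : _ ≤ ψ ⁻¹ᵁ (ProjMap.pcoc n' k).D ⟨j⟩),
        ψ = (W r j).ι ≫ r →
        (W r j).topIso.hom ((ψ.appLE ((ProjMap.pcoc n' k).D ⟨j⟩) ⊤ e).hom
          (Proj.awayToSection (CohB1.polyGrading n' k) (MvPolynomial.X j) v)) =
          (r.app ((ProjMap.pcoc n' k).D ⟨j⟩)).hom
            (Proj.awayToSection (CohB1.polyGrading n' k) (MvPolynomial.X j) v) := by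
      rintro _ e rfl
      rw [← Scheme.Hom.appLE_comp_appLE (W r j).ι r _ (W r j) ⊤ le_rfl (W r j).ι_preimage_self.ge,
        CommRingCat.comp_apply, Scheme.Opens.ι_appLE, Scheme.Hom.app_eq_appLE]
      exact res_res _ _ _ |>.trans (res_self _ _)
    have h := key _ (ProjPt.pt_preimage_self _ _ _ _).ge hg.symm
    erw [ProjMap.pt_appLE_awayToSection] at h
    exact h
  have hconst : ∀ t, (W r j).topIso.hom (g (ProjMap.cst (MvPolynomial.X j) t)) =
      res (le_top : W r j ≤ ⊤) (ProjUP.toGlobal f t) := by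
    intro t
    have h1 : (W r j).ι ≫ f = ProjPt.pt (CohB1.polyGrading n' k) (ProjMap.X_mem j) one_pos g ≫
        CohB1.ProjSpace.toSpec n' k := by rw [← hr, ← Category.assoc, hg]
    rw [ProjMap.pt_toSpec, ProjMap.eq_toSpecΓ_toGlobal ((W r j).ι ≫ f)] at h1
    have h2 := congrArg (fun F => F.hom t) (ProjPt.toSpecΓ_comp_SpecMap_injective h1)
    refine (congrArg (W r j).topIso.hom h2.symm).trans ?_
    show (W r j).topIso.hom (((W r j).ι ≫ f).appTop.hom _) = res _ (f.appTop.hom _)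
    rw [Scheme.Hom.comp_appTop, CommRingCat.comp_apply, Scheme.Opens.ι_appTop]
    exact res_res _ _ _
  obtain ⟨v, hv⟩ := hgsurj ((W r j).topIso.inv z)
  obtain ⟨P, rfl⟩ := ProjMap.exists_eval_ratio j v
  have hz : z = (((W r j).topIso.hom.hom.comp g).comp
      (MvPolynomial.eval₂Hom (ProjMap.cst (MvPolynomial.X j)) (ProjMap.ratio j))) P := by
    show z = (W r j).topIso.hom (g _)
    rw [hv]
    exact (congrArg (fun F => F.hom z) (W r j).topIso.inv_hom_id).symm
  rw [hz]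
  clear hz hv
  induction P using MvPolynomial.induction_on with
  | C t =>
    refine Subring.subset_closure (Or.inl ⟨t, ?_⟩)
    show (W r j).topIso.hom (g (MvPolynomial.eval₂Hom _ _ (MvPolynomial.C t))) = _
    rw [MvPolynomial.eval₂Hom_C]
    exact hconst t
  | add p q hp hq => rw [map_add]; exact add_mem hp hq
  | mul_X p i hp =>
    rw [map_mul]
    refine mul_mem hp (Subring.subset_closure (Or.inr ⟨i, ?_⟩))
    rw [sectRes_coordFam r c τ j i]
    congr 1
    show _ = (W r j).topIso.hom (g (MvPolynomial.eval₂Hom _ _ (MvPolynomial.X i)))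
    rw [MvPolynomial.eval₂Hom_X', hgr i]
    exact (congrArg (fun F => F.hom (ProjMap.pullRatio r j i)) (W r j).topIso.inv_hom_id).symm

variable {Z : Scheme.{u}} (i : Z ⟶ X) (U : X.Opens)

/-- The key data over one point. -/
theorem closure_pair {n : ℕ} {l q : ℕ} (a : Fin (n + 1) → c.sect (l + (l + q)) ⊤) (t : c.sect l ⊤)
    {n₁ : ℕ} (r : X ⟶ CohB1.ProjSpace n₁ k) [IsClosedImmersion r] (hr : r ≫ CohB1.ProjSpace.toSpec n₁ k = f)
    (τ : (Scheme.Modules.pullback r).obj (Twist.twistProjSpace n₁ k 1) ≅ c.twist (l + q)) (j : Fin (n₁ + 1))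
    (w : c.sect q ⊤) (ht : IsAffineOpen (c.locus t))
    (hspan : ∀ u : c.sect (l + q) ⊤, InSpan f c a (c.mul t u)) :
    IsAffineOpen (c.locus (c.mul t (coordFam r c τ j)) ⊓ c.locus (c.mul t (c.mul t w))) ∧
      Subring.closure (genSet f c a (c.mul t (coordFam r c τ j)) (c.mul t (c.mul t w))
        (c.locus (c.mul t (coordFam r c τ j)) ⊓ c.locus (c.mul t (c.mul t w)))) = ⊤ := by
  obtain ⟨hu, hcl⟩ := closure_coord f c r hr τ j
  let u := coordFam r c τ j
  let Xu := c.locus u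
  obtain ⟨(g0 : Γ(X, Xu)), hg0, hg0bo⟩ := c.exists_ratio u (c.mul t w)
  let W0 := c.locus (c.mul t u) ⊓ c.locus (c.mul t (c.mul t w))
  have hW : W0 = X.basicOpen g0 := by
    rw [hg0bo]
    show c.locus (c.mul t u) ⊓ c.locus (c.mul t (c.mul t w)) = c.locus u ⊓ c.locus (c.mul t w)
    simp only [c.locus_mul]
    refine le_antisymm (le_inf (inf_le_left.trans inf_le_right) (inf_le_right.trans inf_le_right)) ?_
    exact le_inf (le_inf (inf_le_right.trans inf_le_left) inf_le_left) (le_inf (inf_le_right.trans inf_le_left) inf_le_right)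
  refine ⟨by show IsAffineOpen W0; rw [hW]; exact hu.basicOpen g0, ?_⟩
  change Subring.closure (genSet f c a (c.mul t u) (c.mul t (c.mul t w)) W0) = ⊤
  have hWu : W0 ≤ Xu := hW.le.trans (X.basicOpen_le _)
  have hmul : ∀ (u' : c.sect (l + q) ⊤) (g : Γ(X, Xu)),
      c.sectRes (le_top : Xu ≤ ⊤) u' = g • c.sectRes le_top u →
        c.sectRes (le_top : W0 ≤ ⊤) (c.mul t u') = res hWu g • c.sectRes le_top (c.mul t u) := by
    intro u' g h
    have h' := congrArg (c.sectRes hWu) h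
    rw [c.sectRes_smul, c.sectRes_sectRes, c.sectRes_sectRes] at h'
    rw [c.sectRes_mul, c.sectRes_mul, h']
    exact c.sect_ext fun i => by simp only [Cocycle.mul_apply, Cocycle.smul_apply]; ring
  let S := Subring.closure (genSet f c a (c.mul t u) (c.mul t (c.mul t w)) W0)
  have hres : ∀ g : Γ(X, Xu), res hWu g ∈ S := by
    intro g
    have hg : g ∈ Subring.closure {g : Γ(X, Xu) | (∃ t : k, g = res le_top (ProjUP.toGlobal f t)) ∨
        ∃ b, c.sectRes (le_top : Xu ≤ ⊤) (coordFam r c τ b) = g • c.sectRes le_top u} := by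
      rw [hcl]; trivial
    refine (Subring.closure_le (t := S.comap (res hWu))).mpr ?_ hg
    rintro g (⟨x, rfl⟩ | ⟨b, hb⟩)
    · exact Subring.subset_closure (Or.inl ⟨x, res_res _ _ _⟩)
    · exact Subring.subset_closure (Or.inr ⟨_, hspan _, Or.inl (hmul _ g hb)⟩)
  refine top_le_iff.mp fun z _ => ?_
  letI : Algebra Γ(X, Xu) Γ(X, W0) := (res hWu).toAlgebra
  haveI : IsLocalization.Away g0 Γ(X, W0) := hu.isLocalization_of_eq_basicOpen g0 (homOfLE hWu) hW
  obtain ⟨⟨z0, _, e, rfl⟩, hz0⟩ := IsLocalization.surj (Submonoid.powers g0) z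
  obtain ⟨(g1 : Γ(X, W0)), hg1⟩ := (c.bijective_hom_app (c.mul t (c.mul t w)) (inf_le_right : W0 ≤ _)).2
    (c.sectRes (le_top : W0 ≤ ⊤) (c.mul t u))
  have hg1' : c.sectRes (le_top : W0 ≤ ⊤) (c.mul t u) = g1 • c.sectRes le_top (c.mul t (c.mul t w)) :=
    hg1.symm.trans (c.hom_app_apply _ _ g1)
  have hinv : res hWu g0 * g1 = 1 := by
    refine c.smul_injective_of_le_locus (c.mul t (c.mul t w)) (inf_le_right : W0 ≤ _) ?_
    rw [one_smul, mul_smul, ← hg1']
    exact (hmul _ g0 hg0).symm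
  have hz : z = res hWu z0 * g1 ^ e := by
    have h : z * res hWu g0 ^ e = res hWu z0 := by
      refine Eq.trans ?_ hz0
      rw [← map_pow]
      rfl
    rw [← h, mul_assoc, ← mul_pow, hinv, one_pow, mul_one]
  rw [hz]
  have hg1S : g1 ∈ S := Subring.subset_closure (show g1 ∈ genSet f c a (c.mul t u) (c.mul t (c.mul t w)) W0 from
    Or.inr ⟨_, hspan u, Or.inr hg1'⟩)
  exact mul_mem (hres z0) (pow_mem hg1S e)

/-- Families with affine loci covering an open, inside it and vanishing on a subscheme missing it. -/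
theorem exists_cover_families [CompactSpace X] [CompactSpace Z] (hc : c.IsAmp) (hUc : IsCompact (U : Set X))
    (hi : ∀ z : Z, i z ∉ U) :
    ∃ l : ℕ, ∀ x ∈ U, ∃ t : c.sect l ⊤, x ∈ c.locus t ∧ c.locus t ≤ U ∧ IsAffineOpen (c.locus t) ∧ Vanishes i c t := by
  classical
  have hex : ∀ x : U, ∃ (n : ℕ) (a : c.sect (n + 1) ⊤), x.1 ∈ c.locus a ∧ c.locus a ≤ U ∧ IsAffineOpen (c.locus a) :=
    fun x => c.exists_affine_locus_le hc x.2
  choose deg a hxa hle haff using hex
  obtain ⟨S, hS⟩ := hUc.elim_finite_subcover (fun x : U => (c.locus (a x) : Set X)) (fun x => (c.locus (a x)).2)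
    (fun x hx => Set.mem_iUnion.mpr ⟨⟨x, hx⟩, hxa ⟨x, hx⟩⟩)
  have hvan : ∀ x, ∃ e : ℕ, ∀ e', e ≤ e' → Vanishes i c (c.sectPow (a x) e') := fun x =>
    exists_vanishes_pow i c (a x) fun z hz => hi z (hle x hz)
  choose E hE using hvan
  let d := ∏ x ∈ S, (deg x + 1)
  let e := S.sup E + 1
  refine ⟨d * e, fun x hx => ?_⟩
  obtain ⟨y, hy, hxy⟩ := Set.mem_iUnion₂.mp (hS hx)
  obtain ⟨p, hp⟩ := Finset.dvd_prod_of_mem (fun x => deg x + 1) hy
  have hd : 0 < d := Finset.prod_pos fun x _ => Nat.succ_pos _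
  have hp0 : 0 < p := pos_of_mul_pos_right (lt_of_lt_of_eq hd hp) (Nat.zero_le _)
  have hE' : E y ≤ p * e := ((Finset.le_sup hy).trans (Nat.le_succ _)).trans (Nat.le_mul_of_pos_left _ hp0)
  have hdeg : (deg y + 1) * (p * e) = d * e := by rw [← mul_assoc, ← hp]
  refine ⟨c.sectCast hdeg (c.sectPow (a y) (p * e)), ?_⟩
  have hloc : c.locus (c.sectCast hdeg (c.sectPow (a y) (p * e))) = c.locus (a y) :=
    (c.locus_sectCast _ _).trans (c.locus_sectPow _ (Nat.mul_pos hp0 (Nat.succ_pos _)))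
  rw [hloc]
  exact ⟨hxy, hle y, haff y, hE y _ hE'⟩

/-- The sections vanishing on the subscheme embed the complement. -/
theorem eventually_kernel_immersion [IsProper f] (L : X.Modules) (hLa : CohB1.IsAmple L)
    [IsClosedImmersion i] (hU : (U : Set X) = (Set.range i.base)ᶜ) :
    ∃ n₀ : ℕ, ∀ n : ℕ, n₀ ≤ n →
      ProjUP.GeneratedBy ((CohB1.tensorPow L n).restrict U.ι)
        (fun v : {s : ProjUP.Γm (CohB1.tensorPow L n) // ProjUP.pullSec i (CohB1.tensorPow L n) s = 0} =>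
          resU U (CohB1.tensorPow L n) v.1) ∧
      ∀ (r : ℕ) (s : Fin (r + 1) → ProjUP.Γm (CohB1.tensorPow L n)),
        (∀ v : ProjUP.Γm (CohB1.tensorPow L n), ProjUP.pullSec i (CohB1.tensorPow L n) v = 0 →
          ∃ c : Fin (r + 1) → k, v = ∑ j, ProjUP.toGlobal f (c j) • s j) →
        ∀ (φ : (U : Scheme.{u}) ⟶ CohB1.ProjSpace r k) (_ : φ ≫ CohB1.ProjSpace.toSpec r k = U.ι ≫ f)
          (τ : (Scheme.Modules.pullback φ).obj (Twist.twistProjSpace r k 1) ≅ (CohB1.tensorPow L n).restrict U.ι)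
          (_ : ∀ j, τ.hom.app ⊤ (ProjMap.pullCoord φ j) = resU U (CohB1.tensorPow L n) (s j)),
          IsImmersion φ := by
  obtain ⟨c, ⟨e⟩⟩ := Ample.exists_cocycle hLa.1
  haveI := hLa.2.1
  haveI : IsLocallyNoetherian X := LocallyOfFiniteType.isLocallyNoetherian f
  haveI : IsNoetherian X := {}
  haveI : CompactSpace Z := QuasiCompact.compactSpace_of_compactSpace i
  have hUc : IsCompact (U : Set X) := NoetherianSpace.isCompact _
  have hiU : ∀ z : Z, i z ∉ U := fun z hz => by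
    have : i.base z ∈ (U : Set X) := hz
    rw [hU] at this
    exact this ⟨z, rfl⟩
  obtain ⟨l, hl⟩ := exists_cover_families c i U ((c.isAmple_iff e).1 hLa).2 hUc hiU
  letI : X.Over (Spec (CommRingCat.of k)) := ⟨f⟩
  haveI : IsProper (X ↘ Spec (CommRingCat.of k)) := ‹IsProper f›
  obtain ⟨m₀, hm₀⟩ := Algz56.eventually_closedEmbedding k hLa
  refine ⟨l + (l + m₀), fun n hn => ?_⟩
  obtain ⟨q, rfl, hq⟩ : ∃ q, n = l + (l + q) ∧ m₀ ≤ q := ⟨n - (l + l), by omega, by omega⟩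
  have hemb : ∀ m, m₀ ≤ m → ∃ (N : ℕ) (r : X ⟶ CohB1.ProjSpace N k) (_ : IsClosedImmersion r)
      (_ : r ≫ CohB1.ProjSpace.toSpec N k = f),
      Nonempty ((Scheme.Modules.pullback r).obj (Twist.twistProjSpace N k 1) ≅ c.twist m) := fun m hm => by
    obtain ⟨N, r, τ, hr, hrf, -⟩ := hm₀ m hm
    obtain ⟨d⟩ := c.nonempty_tensorPow_iso e m
    have e1 : CohB1.tensorMod (Coh.structureModule X) (CohB1.tensorPow L m) ≅ CohB1.tensorPow L m :=
      OX.tensorUnitLeftIso (CohB1.tensorPow L m)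
    exact ⟨N, r, hr, hrf, ⟨τ ≪≫ e1 ≪≫ d⟩⟩
  obtain ⟨n₁, r₁, hr₁, hr₁f, ⟨τ₁⟩⟩ := hemb (l + q) (hq.trans (Nat.le_add_left _ _))
  obtain ⟨n₂, r₂, hr₂, hr₂f, ⟨τ₂⟩⟩ := hemb q hq
  obtain ⟨d⟩ := c.nonempty_tensorPow_iso e (l + (l + q))
  have hvv : ∀ (t : c.sect l ⊤), Vanishes i c t → ∀ u : c.sect (l + q) ⊤,
      ProjUP.pullSec i (CohB1.tensorPow L (l + (l + q))) (d.inv.app ⊤ (c.mul t u)) = 0 := fun t ht u =>
    pullSec_eq_zero i c d (ht.mul i c u)
  have hcov : ∀ x : X, ∃ j, x ∈ c.locus (coordFam r₁ c τ₁ j) := fun x => by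
    obtain ⟨j, hj⟩ := (ProjMap.pcoc n₁ k).exists_mem (r₁ x)
    exact ⟨j.down, (W_eq r₁ c τ₁ j.down).le hj⟩
  have hcov₂ : ∀ x : X, ∃ j, x ∈ c.locus (coordFam r₂ c τ₂ j) := fun x => by
    obtain ⟨j, hj⟩ := (ProjMap.pcoc n₂ k).exists_mem (r₂ x)
    exact ⟨j.down, (W_eq r₂ c τ₂ j.down).le hj⟩
  refine ⟨?_, fun n' s hspan φ hφ τ hτ => ?_⟩
  · refine Algz56.generatedBy_of_isGen _ fun y => ?_
    obtain ⟨t, hyt, -, -, htv⟩ := hl (U.ι y) y.2
    obtain ⟨j, hj⟩ := hcov (U.ι y)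
    let σ := c.mul t (coordFam r₁ c τ₁ j)
    refine ⟨⟨d.inv.app ⊤ σ, hvv t htv _⟩, U.ι ⁻¹ᵁ c.locus σ, ?_, ?_⟩
    · show U.ι y ∈ c.locus σ
      rw [c.locus_mul]
      exact ⟨hyt, hj⟩
    · rw [mres_resU]
      refine isGen_of_image U _ ?_
      have h := isGen_app d.symm ((isGen_iff_le_locus c σ _).mpr (U.ι.image_preimage_le (c.locus σ)))
      have e : c.sectRes (le_top : U.ι ''ᵁ (U.ι ⁻¹ᵁ c.locus σ) ≤ ⊤) σ =
          mres (c.twist (l + (l + q))) le_top σ := rfl
      rw [e, app_mres] at h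
      exact h
  · have hspan' : ∀ (t : c.sect l ⊤), Vanishes i c t → ∀ u : c.sect (l + q) ⊤,
        InSpan f c (fun b => fam c d (s b)) (c.mul t u) := fun t ht u => by
      obtain ⟨cf, hcf⟩ := hspan _ (hvv t ht u)
      refine ⟨cf, ?_⟩
      have h := congrArg (d.hom.app ⊤) hcf
      rw [map_sum] at h
      refine (inv_app_hom d (c.mul t u)).symm.trans (h.trans (Finset.sum_congr rfl fun b _ => ?_))
      exact app_smul d.hom _ _
    refine isImmersion_of_pieces f c (fun b => fam c d (s b)) U φ hφ (image_W U φ c d τ hτ)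
      (sectRes_eq_pullRatio_smul U φ c d τ hτ) fun x => ?_
    obtain ⟨t, hxt, htU, hta, htv⟩ := hl (U.ι x) x.2
    obtain ⟨j, hj⟩ := hcov (U.ι x)
    obtain ⟨j', hj'⟩ := hcov₂ (U.ι x)
    obtain ⟨h1, h2⟩ := closure_pair f c (fun b => fam c d (s b)) t r₁ hr₁f τ₁ j (coordFam r₂ c τ₂ j') hta (hspan' t htv)
    refine ⟨_, _, hspan' t htv _, hspan' t htv _, ?_, ?_, h1, h2⟩
    · simp only [c.locus_mul]
      exact ⟨⟨hxt, hj⟩, hxt, hxt, hj'⟩
    · rw [c.locus_mul]
      exact inf_le_left.trans htU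

end GrothLib.KerImm5
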