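import Groth.Agent.Lib.KerImm5.Gen
import Mathlib.AlgebraicGeometry.AffineScheme
import Mathlib.AlgebraicGeometry.Morphisms.ClosedImmersion

/-!
# An immersion criterion through ratios of spanned families
-/

set_option autoImplicit false
set_option linter.all false
set_option backward.isDefEq.respectTransparency false
set_option maxHeartbeats 800000

universe u

open AlgebraicGeometry CategoryTheory CategoryTheory.Limits TopologicalSpace Opposite
open GrothLib.InvExt (mres IsGen)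
open GrothLib.Ample

noncomputable section

namespace GrothLib.KerImm5

variable {k : Type u} [Field k] {X : Scheme.{u}} (f : X ⟶ Spec (CommRingCat.of k)) {n : ℕ}

theorem res_toGlobal {P : Scheme.{u}} (U : X.Opens) (φ : (U : Scheme.{u}) ⟶ P) (q : P ⟶ Spec (CommRingCat.of k))
    (hφ : φ ≫ q = U.ι ≫ f) (O : P.Opens) (V : (U : Scheme.{u}).Opens) (hV : V ≤ φ ⁻¹ᵁ O) (t : k) :
    (φ.appLE O V hV).hom (res (le_top : O ≤ ⊤) (ProjUP.toGlobal q t)) =
      res (le_top : U.ι ''ᵁ V ≤ ⊤) (ProjUP.toGlobal f t) := by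
  let T : (Spec (CommRingCat.of k)).Opens := ⊤
  let z : Γ(Spec (CommRingCat.of k), T) := (Scheme.ΓSpecIso (CommRingCat.of k)).inv.hom t
  have hq : ∀ {S : Scheme.{u}} (p : S ⟶ Spec (CommRingCat.of k)) (W : S.Opens),
      res (le_top : W ≤ ⊤) (ProjUP.toGlobal p t) = (p.appLE T W (fun _ _ => trivial)).hom z := by
    intro S p W
    have h := congrArg (fun F => F.hom z) (p.appLE_map (U := T) (V := ⊤) (fun _ _ => trivial) (homOfLE (le_top : W ≤ ⊤)).op)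
    refine Eq.trans ?_ h
    show res _ (p.appTop.hom z) = res _ ((p.appLE T ⊤ (fun _ _ => trivial)).hom z)
    rw [show p.appLE T ⊤ (fun _ _ => trivial) = p.appTop by rw [Scheme.Hom.appTop, Scheme.Hom.app_eq_appLE]; rfl]
  rw [hq q O, hq f (U.ι ''ᵁ V), ← CommRingCat.comp_apply, Scheme.Hom.appLE_comp_appLE]
  have key : ∀ (ψ : (U : Scheme.{u}) ⟶ Spec (CommRingCat.of k)) (e : V ≤ ψ ⁻¹ᵁ T), ψ = U.ι ≫ f →
      (ψ.appLE T V e).hom z = (f.appLE T (U.ι ''ᵁ V) (fun _ _ => trivial)).hom z := by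
    rintro _ e rfl
    rw [← Scheme.Hom.appLE_comp_appLE U.ι f T (U.ι ''ᵁ V) V (fun _ _ => trivial)
      (le_of_eq (Scheme.Hom.preimage_image_eq U.ι V).symm), CommRingCat.comp_apply, Scheme.Opens.ι_appLE]
    exact res_self _ _
  exact key _ _ hφ

variable (c : Cocycle X) {N : ℕ} (a : Fin (n + 1) → c.sect N ⊤)

/-- The families which are combinations of the given ones. -/
def InSpan (ρ : c.sect N ⊤) : Prop :=
  ∃ cf : Fin (n + 1) → k, ρ = ∑ b, ProjUP.toGlobal f (cf b) • a b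

/-- Elements recognised as ratios of spanned families on an open. -/
def genSet (σ σ' : c.sect N ⊤) (W : X.Opens) : Set Γ(X, W) :=
  {g | (∃ t : k, g = res (le_top : W ≤ ⊤) (ProjUP.toGlobal f t)) ∨
    ∃ ρ, InSpan f c a ρ ∧ (c.sectRes (le_top : W ≤ ⊤) ρ = g • c.sectRes le_top σ ∨
      c.sectRes (le_top : W ≤ ⊤) ρ = g • c.sectRes le_top σ')}

/-- Immersion criterion. -/
theorem isImmersion_of_pieces (U : X.Opens) (φ : (U : Scheme.{u}) ⟶ CohB1.ProjSpace n k)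
    (hφ : φ ≫ CohB1.ProjSpace.toSpec n k = U.ι ≫ f)
    (himg : ∀ b, U.ι ''ᵁ W φ b = U ⊓ c.locus (a b))
    (hrel : ∀ j b, c.sectRes (le_top : U.ι ''ᵁ W φ j ≤ ⊤) (a b) =
      (show Γ(X, U.ι ''ᵁ W φ j) from ProjMap.pullRatio φ j b) • c.sectRes (le_top : U.ι ''ᵁ W φ j ≤ ⊤) (a j))
    (hcov : ∀ x : (U : Scheme.{u}), ∃ σ σ', InSpan f c a σ ∧ InSpan f c a σ' ∧
      U.ι x ∈ c.locus σ ⊓ c.locus σ' ∧ c.locus σ ≤ U ∧ IsAffineOpen (c.locus σ ⊓ c.locus σ') ∧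
      Subring.closure (genSet f c a σ σ' (c.locus σ ⊓ c.locus σ')) = ⊤) :
    IsImmersion φ := by
  let P := ProjMap.pcoc n k
  choose σ σ' hσ hσ' hxσ hσU haff hgen using hcov
  choose cσ hcσ using hσ
  choose cσ' hcσ' using hσ'
  let κ : ∀ O : (CohB1.ProjSpace n k).Opens, k → Γ(CohB1.ProjSpace n k, O) := fun O t =>
    res (le_top : O ≤ ⊤) (ProjUP.toGlobal (CohB1.ProjSpace.toSpec n k) t)
  let y : ∀ (j : Fin (n + 1)), (Fin (n + 1) → k) → Γ(CohB1.ProjSpace n k, P.D ⟨j⟩) := fun j cf =>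
    ∑ b, κ (P.D ⟨j⟩) (cf b) *
      (show Γ(CohB1.ProjSpace n k, P.D ⟨j⟩) from
        Proj.awayToSection (CohB1.polyGrading n k) (MvPolynomial.X j) (ProjMap.ratio j b))
  let ψ : ∀ j : Fin (n + 1), Γ(CohB1.ProjSpace n k, P.D ⟨j⟩) →+* Γ(X, U.ι ''ᵁ W φ j) := fun j =>
    (φ.appLE (P.D ⟨j⟩) (W φ j) le_rfl).hom
  have hψy : ∀ (j : Fin (n + 1)) (cf : Fin (n + 1) → k) (ρ : c.sect N ⊤), ρ = ∑ b, ProjUP.toGlobal f (cf b) • a b →
      c.sectRes (le_top : U.ι ''ᵁ W φ j ≤ ⊤) ρ = ψ j (y j cf) • c.sectRes (le_top : U.ι ''ᵁ W φ j ≤ ⊤) (a j) := by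
    rintro j cf ρ rfl
    rw [map_sum, show ψ j (y j cf) = ∑ b, ψ j (κ (P.D ⟨j⟩) (cf b) *
      (show Γ(CohB1.ProjSpace n k, P.D ⟨j⟩) from
        Proj.awayToSection (CohB1.polyGrading n k) (MvPolynomial.X j) (ProjMap.ratio j b))) from map_sum _ _ _, Finset.sum_smul]
    refine Finset.sum_congr rfl fun b _ => ?_
    rw [c.sectRes_smul, hrel j b, smul_smul, map_mul]
    congr 2
    exact (res_toGlobal f U φ _ hφ _ _ le_rfl (cf b)).symm
  let O : Prod ↥(U : Scheme.{u}) (Fin (n + 1)) → (CohB1.ProjSpace n k).Opens := fun p =>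
    (CohB1.ProjSpace n k).basicOpen (y p.2 (cσ p.1) * y p.2 (cσ' p.1))
  have hV : ∀ p, U.ι ''ᵁ (φ ⁻¹ᵁ O p) = (c.locus (σ p.1) ⊓ c.locus (σ' p.1)) ⊓ c.locus (a p.2) := by
    intro p
    have e1 : W φ p.2 ⊓ φ ⁻¹ᵁ O p = φ ⁻¹ᵁ O p :=
      inf_eq_right.mpr (φ.preimage_mono ((CohB1.ProjSpace n k).basicOpen_le _))
    rw [← e1, ← Scheme.basicOpen_appLE φ (W φ p.2) (P.D ⟨p.2⟩) le_rfl, Scheme.image_basicOpen, Scheme.Opens.ι_appIso]
    show X.basicOpen (ψ p.2 (y p.2 (cσ p.1) * y p.2 (cσ' p.1))) = _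
    rw [map_mul, Scheme.basicOpen_mul,
      c.basicOpen_eq_of_smul (a p.2) (σ p.1) ((himg p.2).le.trans inf_le_right) _ (hψy p.2 _ _ (hcσ p.1)),
      c.basicOpen_eq_of_smul (a p.2) (σ' p.1) ((himg p.2).le.trans inf_le_right) _ (hψy p.2 _ _ (hcσ' p.1)), himg]
    refine le_antisymm (le_inf (le_inf (inf_le_left.trans inf_le_right) (inf_le_right.trans inf_le_right))
      ((inf_le_left.trans inf_le_left).trans inf_le_right)) ?_
    exact le_inf (le_inf (le_inf ((inf_le_left.trans inf_le_left).trans (hσU p.1)) inf_le_right)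
      (inf_le_left.trans inf_le_left))
      (le_inf (le_inf ((inf_le_left.trans inf_le_left).trans (hσU p.1)) inf_le_right) (inf_le_left.trans inf_le_right))
  have hbase : ∀ p : Prod ↥(U : Scheme.{u}) (Fin (n + 1)), ∃ h : Γ(X, c.locus (σ p.1) ⊓ c.locus (σ' p.1)),
      c.sectRes le_top (a p.2) = h • c.sectRes (le_top : c.locus (σ p.1) ⊓ c.locus (σ' p.1) ≤ ⊤) (σ p.1) ∧
      X.basicOpen h = (c.locus (σ p.1) ⊓ c.locus (σ' p.1)) ⊓ c.locus (a p.2) := by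
    intro p
    let W0 := c.locus (σ p.1) ⊓ c.locus (σ' p.1)
    obtain ⟨(h : Γ(X, W0)), hh⟩ := (c.bijective_hom_app (σ p.1) (inf_le_left : W0 ≤ _)).2
      (c.sectRes (le_top : W0 ≤ ⊤) (a p.2))
    have h' : c.sectRes le_top (a p.2) = h • c.sectRes (le_top : W0 ≤ ⊤) (σ p.1) :=
      hh.symm.trans (c.hom_app_apply (σ p.1) _ h)
    exact ⟨h, h', c.basicOpen_eq_of_smul (σ p.1) (a p.2) inf_le_left h h'⟩
  choose hh hheq hhbo using hbase
  have hVaff : ∀ p, IsAffineOpen (φ ⁻¹ᵁ O p) := fun p => by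
    rw [← U.ι.isAffineOpen_iff_of_isOpenImmersion, hV, ← hhbo]
    exact (haff p.1).basicOpen _
  refine isImmersion_of_affine_pieces φ O
    (fun p => (Proj.isAffineOpen_basicOpen (CohB1.polyGrading n k) (MvPolynomial.X p.2) (ProjMap.X_mem p.2) one_pos).basicOpen _)
    (fun x => ?_) hVaff fun p => ?_
  · obtain ⟨j, hj⟩ := P.exists_mem (φ x)
    refine ⟨(x, j.down), ?_⟩
    have h1 : U.ι x ∈ U.ι ''ᵁ (φ ⁻¹ᵁ O (x, j.down)) := by
      rw [hV]
      refine ⟨hxσ x, ?_⟩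
      have h2 : U.ι x ∈ U.ι ''ᵁ W φ j.down := ⟨x, hj, rfl⟩
      rw [himg] at h2
      exact h2.2
    obtain ⟨x', hx', e⟩ := h1
    rwa [U.ι.isOpenEmbedding.injective e] at hx'
  · let W0 := c.locus (σ p.1) ⊓ c.locus (σ' p.1)
    let V : X.Opens := U.ι ''ᵁ (φ ⁻¹ᵁ O p)
    have hVW : V ≤ W0 := (hV p).le.trans inf_le_left
    have hVa : V ≤ U.ι ''ᵁ W φ p.2 := U.ι.image_mono (φ.preimage_mono ((CohB1.ProjSpace n k).basicOpen_le _))
    let G : Γ(CohB1.ProjSpace n k, O p) →+* Γ(X, V) := (φ.appLE (O p) (φ ⁻¹ᵁ O p) le_rfl).hom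
    have hG : ∀ z : Γ(CohB1.ProjSpace n k, P.D ⟨p.2⟩),
        G (res ((CohB1.ProjSpace n k).basicOpen_le _) z) = res hVa (ψ p.2 z) := fun z => by
      have e1 := φ.map_appLE (U := O p) (V := φ ⁻¹ᵁ O p) (le_rfl : φ ⁻¹ᵁ O p ≤ φ ⁻¹ᵁ O p)
        (homOfLE ((CohB1.ProjSpace n k).basicOpen_le _ : O p ≤ P.D ⟨p.2⟩)).op
      have e2 := φ.appLE_map (U := P.D ⟨p.2⟩) (V := W φ p.2) le_rfl
        (homOfLE (φ.preimage_mono ((CohB1.ProjSpace n k).basicOpen_le _) : φ ⁻¹ᵁ O p ≤ W φ p.2)).op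
      exact congrArg (fun F => F.hom z) (e1.trans e2.symm)
    have hρ : ∀ (cf : Fin (n + 1) → k) (ρ : c.sect N ⊤), ρ = ∑ b, ProjUP.toGlobal f (cf b) • a b →
        c.sectRes (le_top : V ≤ ⊤) ρ = G (res ((CohB1.ProjSpace n k).basicOpen_le _) (y p.2 cf)) •
          c.sectRes (le_top : V ≤ ⊤) (a p.2) := fun cf ρ e => by
      have h := congrArg (c.sectRes hVa) (hψy p.2 cf ρ e)
      rw [c.sectRes_smul, c.sectRes_sectRes, c.sectRes_sectRes] at h
      rw [hG]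
      exact h
    have hunit := RingedSpace.isUnit_res_basicOpen (CohB1.ProjSpace n k).toRingedSpace
      (y p.2 (cσ p.1) * y p.2 (cσ' p.1))
    have hu : IsUnit (res ((CohB1.ProjSpace n k).basicOpen_le _ : O p ≤ P.D ⟨p.2⟩) (y p.2 (cσ p.1))) ∧
        IsUnit (res ((CohB1.ProjSpace n k).basicOpen_le _ : O p ≤ P.D ⟨p.2⟩) (y p.2 (cσ' p.1))) := by
      have h : IsUnit (res ((CohB1.ProjSpace n k).basicOpen_le _ : O p ≤ P.D ⟨p.2⟩)
          (y p.2 (cσ p.1) * y p.2 (cσ' p.1))) := hunit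
      rw [map_mul] at h
      exact ⟨isUnit_of_mul_isUnit_left h, isUnit_of_mul_isUnit_right h⟩
    have hinj : ∀ {τ : c.sect N ⊤}, V ≤ c.locus τ → ∀ {r r' : Γ(X, V)},
        r • c.sectRes (le_top : V ≤ ⊤) τ = r' • c.sectRes (le_top : V ≤ ⊤) τ → r = r' :=
      fun {τ} hτ {r r'} h => c.smul_injective_of_le_locus τ hτ h
    have hquot : ∀ (cs : Fin (n + 1) → k) (τ : c.sect N ⊤), τ = ∑ b, ProjUP.toGlobal f (cs b) • a b →
        IsUnit (res ((CohB1.ProjSpace n k).basicOpen_le _ : O p ≤ P.D ⟨p.2⟩) (y p.2 cs)) → V ≤ c.locus τ →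
        ∀ (ρ : c.sect N ⊤), InSpan f c a ρ → ∀ g : Γ(X, W0),
          c.sectRes (le_top : W0 ≤ ⊤) ρ = g • c.sectRes le_top τ → res hVW g ∈ Set.range G := by
      rintro cs τ hτ hcs hle ρ ⟨cf, hcf⟩ g hg
      obtain ⟨v, hv⟩ := hcs.exists_left_inv
      refine ⟨res ((CohB1.ProjSpace n k).basicOpen_le _) (y p.2 cf) * v, hinj hle ?_⟩
      have h := congrArg (c.sectRes hVW) hg
      rw [c.sectRes_smul, c.sectRes_sectRes, c.sectRes_sectRes] at h
      rw [← h, hρ cs τ hτ, smul_smul, ← map_mul, mul_assoc, hv, mul_one, ← hρ cf ρ hcf]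
    have hall : ∀ z : Γ(X, W0), res hVW z ∈ G.range := by
      intro z
      have hz : z ∈ Subring.closure (genSet f c a (σ p.1) (σ' p.1) W0) := by rw [hgen p.1]; trivial
      refine (Subring.closure_le (t := G.range.comap (res hVW))).mpr ?_ hz
      rintro g (⟨t, rfl⟩ | ⟨ρ, hρs, hg | hg⟩)
      · refine ⟨κ (O p) t, ?_⟩
        rw [res_res]
        exact res_toGlobal f U φ _ hφ _ _ le_rfl t
      · exact hquot _ _ (hcσ p.1) hu.1 (hVW.trans inf_le_left) ρ hρs g hg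
      · exact hquot _ _ (hcσ' p.1) hu.2 (hVW.trans inf_le_right) ρ hρs g hg
    intro (z : Γ(X, V))
    letI : Algebra Γ(X, W0) Γ(X, V) := (res hVW).toAlgebra
    haveI : IsLocalization.Away (hh p) Γ(X, V) :=
      (haff p.1).isLocalization_of_eq_basicOpen (hh p) (homOfLE hVW) ((hV p).trans (hhbo p).symm)
    obtain ⟨⟨z0, _, e, rfl⟩, hz0⟩ := IsLocalization.surj (Submonoid.powers (hh p)) z
    obtain ⟨w, hw⟩ := hall z0
    have hinv : res hVW (hh p) * G (res ((CohB1.ProjSpace n k).basicOpen_le _) (y p.2 (cσ p.1))) = 1 := by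
      refine hinj (hVW.trans inf_le_left) ?_
      have h := congrArg (c.sectRes hVW) (hheq p)
      rw [c.sectRes_smul, c.sectRes_sectRes, c.sectRes_sectRes] at h
      rw [one_smul, mul_comm, mul_smul, ← h, ← hρ _ _ (hcσ p.1)]
    refine ⟨w * res ((CohB1.ProjSpace n k).basicOpen_le _) (y p.2 (cσ p.1)) ^ e, ?_⟩
    show G _ = _
    rw [map_mul, map_pow, hw]
    have hz1 : z * res hVW (hh p) ^ e = res hVW z0 := by
      refine Eq.trans ?_ hz0
      rw [← map_pow]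
      rfl
    rw [← hz1, mul_assoc, ← mul_pow, hinv, one_pow]
    exact mul_one z

end GrothLib.KerImm5
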